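import Cfsg.Agent.H999.DS.Tools
import Cfsg.Agent.H690.Spor.Ru

/-!
# `Ru` for S4906 (helper999)

The rank 3 permutation character of degree 4060 is `1 + χ783 + χ3276` (the arithmetic is copied from helper713's
`H713/Two/Ru.lean`, whose closure is larger).
-/

set_option autoImplicit false
set_option maxRecDepth 100000
set_option exponentiation.threshold 5000

namespace Cfsg.Agent.H999.DS

open Cfsg Cfsg.Agent.H704
open Cfsg.Agent.SporadicB.RuOrder

universe u

theorem ru_cand : ∀ f < 4060, f * (4059 - f) ∣ (1 + 1755 + 2304) * 1755 * 2304 →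
    f ∈ [0, 27, 144, 315, 783, 1755, 2304, 3276, 3744, 3915, 4032, 4059] := by decide +kernel

theorem not_sq {n a : ℕ} (h1 : a * a < n) (h2 : n < (a + 1) * (a + 1)) : ¬ IsSquare n := by
  rintro ⟨r, rfl⟩
  have h3 : a < r := by
    by_contra h
    push Not at h
    exact absurd (Nat.mul_le_mul h h) (by omega)
  have h4 : r < a + 1 := by
    by_contra h
    push Not at h
    exact absurd (Nat.mul_le_mul h h) (by omega)
  omega

theorem ru_degrees {f g D : ℕ} (h1 : f + g = 1755 + 2304) (h2 : f * g * D = (1 + 1755 + 2304) * 1755 * 2304)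
    (h3 : f ≠ g → IsSquare D) : (f = 783 ∧ g = 3276) ∨ (f = 3276 ∧ g = 783) := by
  have hg : g = 4059 - f := by omega
  have hne : f ≠ g := by omega
  have hD := h3 hne
  subst hg
  have h4 := ru_cand f (by omega) ⟨D, h2.symm⟩
  simp only [List.mem_cons, List.not_mem_nil, or_false] at h4
  rcases h4 with rfl | rfl | rfl | rfl | rfl | rfl | rfl | rfl | rfl | rfl | rfl | rfl
  · simp at h2
  · exact absurd hD (by
      have : D = 150800 := by omega
      subst this
      exact not_sq (a := 388) (by norm_num) (by norm_num))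
  · exact absurd hD (by
      have : D = 29120 := by omega
      subst this
      exact not_sq (a := 170) (by norm_num) (by norm_num))
  · exact absurd hD (by
      have : D = 13920 := by omega
      subst this
      exact not_sq (a := 117) (by norm_num) (by norm_num))
  · exact Or.inl ⟨rfl, rfl⟩
  · exact absurd hD (by
      have : D = 4060 := by omega
      subst this
      exact not_sq (a := 63) (by norm_num) (by norm_num))
  · exact absurd hD (by
      have : D = 4060 := by omega
      subst this
      exact not_sq (a := 63) (by norm_num) (by norm_num))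
  · exact Or.inr ⟨rfl, rfl⟩
  · exact absurd hD (by
      have : D = 13920 := by omega
      subst this
      exact not_sq (a := 117) (by norm_num) (by norm_num))
  · exact absurd hD (by
      have : D = 29120 := by omega
      subst this
      exact not_sq (a := 170) (by norm_num) (by norm_num))
  · exact absurd hD (by
      have : D = 150800 := by omega
      subst this
      exact not_sq (a := 388) (by norm_num) (by norm_num))
  · simp at h2

theorem ru_chars : ∃ χ₁ χ₂ : IrrCharacter H, (χ₁ : H → ℂ) 1 = (783 : ℕ) ∧ (χ₂ : H → ℂ) 1 = (3276 : ℕ) := by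
  classical
  have hfin : Finite H := Cfsg.Agent.H690.Spor.Ru.instFiniteH
  obtain ⟨R, hR⟩ := Cfsg.Agent.H690.Spor.Ru.r3
  obtain ⟨χ₁, χ₂, f, g, D, hf, hg, -, h1, h2, h3⟩ := hR.frame
  rcases ru_degrees h1 h2 h3 with ⟨rfl, rfl⟩ | ⟨rfl, rfl⟩
  · exact ⟨χ₁, χ₂, hf, hg⟩
  · exact ⟨χ₂, χ₁, hg, hf⟩

theorem row_ru {K : Type u} [Group K] [Finite K] (h : Spor.IsoRu K) {n : ℕ} (_hn : 5 ≤ n)
    (hd : ∀ ψ : K → ℂ, IsIrrCharacter K ψ → ∃ d : ℕ, IsDeg n d ∧ ψ 1 = d) : False := by
  obtain ⟨e⟩ := h
  obtain ⟨χ, θ, hχ, hθ⟩ := ru_chars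
  exact no_ru (isDeg_of_sub (e.trans Cfsg.Agent.RuLat.Main.equiv) hd χ.2 hχ)
    (isDeg_of_sub (e.trans Cfsg.Agent.RuLat.Main.equiv) hd θ.2 hθ)

end Cfsg.Agent.H999.DS
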