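import Cfsg.Agent.H704.LowDegree

/-!
# Degrees of `S_n` below a fixed bound (helper999)

`LB n K B` : the partitions of `n` with more than `K` boxes outside the first row and more than `K` boxes outside the
first column have degree larger than `B`. It is checked by the kernel for one `n` and is inherited by all larger `n`
(`lb_of_le`). Then `not_isDeg` decides that `d ≤ B` is not a degree of `S_n` with the partitions `(n - k, μ)`, `|μ| ≤ K`.
-/

set_option autoImplicit false
set_option linter.unusedSectionVars false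

namespace Cfsg.Agent.H999.DS

open Cfsg.Agent.H704 Finset

/-- lower bound off the thin partitions -/
def LB (n K B : ℕ) : Prop := ∀ (l : List ℕ) (d : ℕ), Dec l → l.sum = n → d * hookProd l = n.factorial →
  l.headD 0 + K < n → colLen l 0 + K < n → B < d

theorem head_add_col_le {l : List ℕ} (hl : Dec l) (h : 0 < l.headD 0) : l.headD 0 + colLen l 0 ≤ l.sum + 1 := by
  obtain ⟨m, hm⟩ : ∃ m, l.headD 0 = m + 1 := ⟨l.headD 0 - 1, by omega⟩
  rw [sum_eq_sum_colLen hl, hm, sum_range_succ']
  have h1 : ∑ j ∈ range m, 1 ≤ ∑ j ∈ range m, colLen l (j + 1) := by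
    apply sum_le_sum
    intro j hj
    rw [mem_range] at hj
    have : 0 < colLen l (j + 1) := by
      rw [lt_colLen_iff hl, ← headD_eq_getD]
      omega
    exact this
  rw [sum_const, card_range, smul_eq_mul, mul_one] at h1
  omega

/-- the first row is long -/
theorem lb_row {n K B : ℕ} (hn : 2 * K + 2 < n) (ih : LB n K B) {l : List ℕ} {d : ℕ} (hl : Dec l) (hs : l.sum = n + 1)
    (hd : d * hookProd l = (n + 1).factorial) (hh : l.headD 0 + K = n) : B < d := by
  obtain ⟨h1, h2, h3⟩ := sum_facts hl (by omega)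
  have h6 := head_add_col_le hl h3
  have hc0 : l.getD (0 + 1) 0 < l.getD 0 0 := by
    rw [← headD_eq_getD, zero_add]; omega
  have hlen0 : 0 < l.length := lt_length_of_getD hc0
  obtain ⟨d1, -, hd1⟩ := exists_deg (dec_rm hl hc0) (n := n) (by have := sum_rm hc0; omega)
  have h4 := branch_one hl hs hc0 hd hd1
  have h7 := colLen_rm_le hl hc0 0
  have h5 := ih (rm l 0) d1 (dec_rm hl hc0) (by have := sum_rm hc0; omega) hd1 (by rw [headD_rm_zero hlen0]; omega)
    (by omega)
  omega

theorem lb_step {n K B : ℕ} (hn : 2 * K + 2 < n) (ih : LB n K B) : LB (n + 1) K B := by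
  intro l d hl hs hd hh hc
  by_cases hA : l.headD 0 + K = n
  · exact lb_row hn ih hl hs hd hA
  by_cases hB : colLen l 0 + K = n
  · refine lb_row hn ih (pairwise_transpose l) ((sum_transpose hl).trans hs) ?_ ?_ (l := transpose l)
    · rw [hookProd_transpose' hl, hd]
    · rw [headD_eq_getD, getD_transpose hl, hB]
  obtain ⟨h1, h2, h3⟩ := sum_facts hl (by omega)
  have hc1 := corner_last hl (by omega)
  obtain ⟨d1, -, hd1⟩ := exists_deg (dec_rm hl hc1) (n := n) (by have := sum_rm hc1; omega)
  have h4 := branch_one hl hs hc1 hd hd1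
  have h7 := colLen_rm_le hl hc1 0
  have h8 := headD_rm_le (l := l) (lt_length_of_getD hc1)
  have h5 := ih (rm l (colLen l 0 - 1)) d1 (dec_rm hl hc1) (by have := sum_rm hc1; omega) hd1 (by omega) (by omega)
  omega

theorem lb_of_le {n m K B : ℕ} (hn : 2 * K + 2 < n) (h : LB n K B) (hm : n ≤ m) : LB m K B := by
  induction m, hm using Nat.le_induction with
  | base => exact h
  | succ m hm ih => exact lb_step (by omega) ih

/-- the base case, by the kernel -/
theorem lb_base {n K B : ℕ} (h : go (fun l H => decide (n ≤ l.headD 0 + K) || decide (n ≤ l.length + K) ||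
    Nat.blt (B * H) n.factorial) (n + 1) n 1 [] 1 = true) : LB n K B := by
  intro l d hl hs hd hh hc
  have h1 := check_of_isPart h (isPart_filter hl hs)
  simp only [Bool.or_eq_true, decide_eq_true_eq] at h1
  rw [headD_filter_pos hl, length_filter_pos, hookProd_filter hl, Nat.blt_eq, ← hd] at h1
  rcases h1 with (h1 | h1) | h1
  · omega
  · omega
  · exact Nat.lt_of_mul_lt_mul_right h1

/-- the first part of the row product -/
def rowP (a b : ℕ) (μ : List ℕ) : ℕ := ((List.range b).map fun j => a - j + colLen μ j).prod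

theorem rowHook_split {a : ℕ} {μ : List ℕ} (hμ : Dec μ) (h : μ.headD 0 ≤ a) :
    rowHook a μ = rowP a (μ.headD 0) μ * (a - μ.headD 0).factorial := by
  obtain ⟨c, hc⟩ := Nat.exists_eq_add_of_le h
  rw [rowHook_eq]
  have h1 : rowP a (μ.headD 0) μ = ∏ j ∈ range (μ.headD 0), (a - j + colLen μ j) := rfl
  rw [h1, ← prod_range_sub' (a - μ.headD 0)]
  generalize hb : μ.headD 0 = b at *
  subst hc
  rw [prod_range_add, Nat.add_sub_cancel_left]
  congr 1
  apply prod_congr rfl
  intro j _
  have h2 : colLen μ (b + j) = 0 := by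
    apply colLen_eq_zero
    intro x hx
    obtain ⟨i, hi, rfl⟩ := List.mem_iff_getElem.1 hx
    have h3 := getD_le_headD hμ i
    rw [List.getD_eq_getElem _ _ hi, hb] at h3
    omega
  rw [h2]
  omega

/-- no partition `(n - k, μ)` with `|μ| = k ≤ K` has degree `d` -/
def levChk (K n d : ℕ) : Bool := (List.range (K + 1)).all fun k =>
  go (fun μ H => !(Nat.beq (d * (H * rowP (n - k) (μ.headD 0) μ)) (n.descFactorial (k + μ.headD 0)))) (k + 1) k 1 [] 1

theorem not_row {n K d : ℕ} (h2 : 2 * K ≤ n) (hn : 0 < n) (hchk : levChk K n d = true) {l : List ℕ} (hl : IsPart l n)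
    (he : d * hookProd l = n.factorial) (h : n ≤ l.headD 0 + K) : False := by
  obtain ⟨hs, hp, hsum⟩ := hl
  cases l with
  | nil => rw [List.sum_nil] at hsum; omega
  | cons a μ =>
    rw [List.headD_cons] at h
    rw [List.sum_cons] at hsum
    have hμ : IsPart μ μ.sum := ⟨hs.of_cons, fun x hx => hp x (List.mem_cons_of_mem _ hx), rfl⟩
    have hb : μ.headD 0 ≤ μ.sum := by
      cases μ with
      | nil => exact le_rfl
      | cons b μ => rw [List.headD_cons, List.sum_cons]; omega
    unfold levChk at hchk
    rw [List.all_eq_true] at hchk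
    have h3 := check_of_isPart (hchk μ.sum (by rw [List.mem_range]; omega)) hμ
    rw [Bool.not_eq_true', ← Bool.not_eq_true, Nat.beq_eq] at h3
    apply h3
    have h4 := rowHook_split hμ.sorted (a := a) (by omega)
    rw [hookProd, h4] at he
    have h5 : n - μ.sum = a := by omega
    rw [h5]
    have h6 : (n - (μ.sum + μ.headD 0)).factorial * n.descFactorial (μ.sum + μ.headD 0) = n.factorial :=
      Nat.factorial_mul_descFactorial (by omega)
    rw [show n - (μ.sum + μ.headD 0) = a - μ.headD 0 by omega, ← he] at h6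
    have h7 := Nat.factorial_pos (a - μ.headD 0)
    apply Nat.eq_of_mul_eq_mul_left h7
    rw [h6]
    ring

/-- `d` is not a degree of `S_n` -/
theorem not_isDeg {n K B d : ℕ} (hLB : LB n K B) (hd : d ≤ B) (h2 : 2 * K ≤ n) (hn : 0 < n) (hchk : levChk K n d = true) :
    ¬ IsDeg n d := by
  rintro ⟨l, hl, he⟩
  by_cases h1 : n ≤ l.headD 0 + K
  · exact not_row h2 hn hchk hl he h1
  by_cases h3 : n ≤ colLen l 0 + K
  · have h4 : (transpose l).headD 0 = colLen l 0 := by rw [headD_eq_getD, getD_transpose hl.sorted]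
    exact not_row h2 hn hchk (isPart_transpose hl) (by rw [hookProd_transpose hl, he]) (by rw [h4]; exact h3)
  have := hLB l d hl.sorted hl.sum he (by omega) (by omega)
  omega

theorem dvd_factorial {n d : ℕ} (h : IsDeg n d) : d ∣ n.factorial := by
  obtain ⟨l, _, he⟩ := h
  exact ⟨_, he.symm⟩

theorem le_of_prime {n d q : ℕ} (h : IsDeg n d) (hq : q.Prime) (hqd : q ∣ d) : q ≤ n :=
  (hq.dvd_factorial).1 (hqd.trans (dvd_factorial h))

/-- the base bound used for `23 ≤ n` -/
theorem lb23 : LB 23 5 67297 := lb_base (by decide +kernel)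

/-- the base bound used for `29 ≤ n` -/
theorem lb29 : LB 29 6 1085759 := lb_base (by decide +kernel)

/-- the range check -/
theorem range_chk {K a m d : ℕ} (h : ((List.range m).all fun i => levChk K (a + i) d) = true) {n : ℕ} (h1 : a ≤ n)
    (h2 : n < a + m) : levChk K n d = true := by
  rw [List.all_eq_true] at h
  have := h (n - a) (by rw [List.mem_range]; omega)
  rwa [show a + (n - a) = n by omega] at this

/-- the base bound used for `29 ≤ n` -/
theorem lb29' : LB 29 7 2731364 := lb_base (by decide +kernel)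

/-- two exact degrees: the first one leaves only `n = m₁ + 1`, which the second one excludes -/
theorem kill {n m1 m2 a b q0 K B s : ℕ} (h1 : IsDeg n m1) (h2 : IsDeg n m2) (hna : a ≤ n) (h9 : 9 ≤ q0)
    (h0 : q0 ≤ a) (hLB : LB q0 K B) (hK : 2 * K + 2 < q0) (hB : m1 ≤ B) (hnb : n < b → n < a + s)
    (hchk : ((List.range s).all fun i => levChk K (a + i) m1) = true) (hM : 2 * m1 < b * (b - 3))
    (hm1 : 1 < m1) (hm2 : 1 < m2) (hne : m2 ≠ m1) (hlt : 2 * m2 < (m1 + 1) * (m1 - 2)) : False := by
  rcases low_degree (by omega) h1 with h | h | h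
  · omega
  · have hn : n = m1 + 1 := by omega
    subst hn
    rcases low_degree (by omega) h2 with h' | h' | h'
    · omega
    · omega
    · rw [show m1 + 1 - 3 = m1 - 2 by omega] at h'
      omega
  · by_cases hn : n < b
    · exact not_isDeg (lb_of_le hK hLB (by omega)) hB (by omega) (by omega) (range_chk hchk hna (hnb hn)) h1
    · have h5 : b * (b - 3) ≤ n * (n - 3) := Nat.mul_le_mul (by omega) (by omega)
      omega

end Cfsg.Agent.H999.DS
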