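import Cfsg.Agent.H999.DS.Tools
import Cfsg.Agent.H492.FactsON

/-!
# `ON` for S4906 (helper999)
-/

set_option autoImplicit false

namespace Cfsg.Agent.H999.DS

open Cfsg Cfsg.Agent.H704

universe u

theorem row_on {K : Type u} [Group K] [Finite K] (h : Spor.IsoON K) {n : ℕ} (_hn : 5 ≤ n) (hd : DegOK n K) : False := by
  obtain ⟨e⟩ := h
  obtain ⟨χ, hχ⟩ := H492.FactsON.exists_32395
  obtain ⟨θ, hθ⟩ := H492.FactsON.exists_10944
  exact no_on (isDeg_of_degOK e hd χ.2 hχ) (isDeg_of_degOK e hd θ.2 hθ)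

end Cfsg.Agent.H999.DS
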