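import Cfsg.Agent.H999.DS.Tools
import Cfsg.Agent.H492.FactsTh

/-!
# `Th` for S4906 (helper999)
-/

set_option autoImplicit false

namespace Cfsg.Agent.H999.DS

open Cfsg Cfsg.Agent.H704

universe u

theorem row_th {K : Type u} [Group K] [Finite K] (h : Spor.IsoTh K) {n : ℕ} (_hn : 5 ≤ n)
    (hd : ∀ ψ : K → ℂ, IsIrrCharacter K ψ → ∃ d : ℕ, IsDeg n d ∧ ψ 1 = d) : False := by
  obtain ⟨e⟩ := h
  obtain ⟨χ, hχ⟩ := H492.FactsTh.exists_61256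
  obtain ⟨θ, hθ⟩ := H492.FactsTh.exists_30875
  exact no_th (isDeg_of_sub e hd χ.2 hχ) (isDeg_of_sub e hd θ.2 hθ)

end Cfsg.Agent.H999.DS
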