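import Cfsg.Agent.H999.DS.Lev

/-!
# The checks for Ru, Th, Ly, ON, J4 (helper999)
-/

set_option autoImplicit false
set_option maxRecDepth 100000

namespace Cfsg.Agent.H999.DS

open Cfsg.Agent.H704

theorem no_ru {n : ℕ} (h1 : IsDeg n 783) (h2 : IsDeg n 3276) : False :=
  kill h1 h2 (a := 29) (s := 14) (b := 43) (le_of_prime h1 (by norm_num) (by norm_num)) (by norm_num) (by norm_num) lb23
    (by norm_num) (by norm_num) (fun h => h) (by decide +kernel) (by norm_num) (by norm_num) (by norm_num) (by norm_num)
    (by norm_num)

theorem no_th {n : ℕ} (h1 : IsDeg n 61256) (h2 : IsDeg n 30875) : False :=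
  kill h1 h2 (a := 31) (s := 322) (b := 353) (le_of_prime h1 (by norm_num) (by norm_num)) (by norm_num) (by norm_num) lb23
    (by norm_num) (by norm_num) (fun h => h) (by decide +kernel) (by norm_num) (by norm_num) (by norm_num) (by norm_num)
    (by norm_num)

theorem chk_on_a : ((List.range 226).all fun i => levChk 5 (31 + i) 32395) = true := by decide +kernel

theorem chk_on_b : ((List.range 332).all fun i => levChk 5 (31 + i) 64790) = true := by decide +kernel

theorem no_on_a {n : ℕ} (h1 : IsDeg n 32395) (h2 : IsDeg n 10944 ∨ IsDeg n 21888) : False := by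
  rcases h2 with h2 | h2 <;>
  exact kill h1 h2 (a := 31) (s := 226) (b := 257) (le_of_prime h1 (by norm_num) (by norm_num)) (by norm_num) (by norm_num)
    lb23 (by norm_num) (by norm_num) (fun h => h) chk_on_a (by norm_num) (by norm_num) (by norm_num) (by norm_num)
    (by norm_num)

theorem no_on_b {n : ℕ} (h1 : IsDeg n 64790) (h2 : IsDeg n 10944 ∨ IsDeg n 21888) : False := by
  rcases h2 with h2 | h2 <;>
  exact kill h1 h2 (a := 31) (s := 332) (b := 363) (le_of_prime h1 (by norm_num) (by norm_num)) (by norm_num) (by norm_num)
    lb23 (by norm_num) (by norm_num) (fun h => h) chk_on_b (by norm_num) (by norm_num) (by norm_num) (by norm_num)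
    (by norm_num)

theorem no_on {n : ℕ} (h1 : IsDeg n 32395 ∨ IsDeg n 64790) (h2 : IsDeg n 10944 ∨ IsDeg n 21888) : False := by
  rcases h1 with h1 | h1
  · exact no_on_a h1 h2
  · exact no_on_b h1 h2

theorem no_ly {n : ℕ} (h1 : IsDeg n 45694) (h2 : IsDeg n 1534500) : False := by
  have h67 := le_of_prime h1 (q := 67) (by norm_num) (by norm_num)
  by_cases hn : n = 67
  · subst hn
    exact not_isDeg (lb_of_le (by norm_num) lb29' (by norm_num)) (by norm_num) (by norm_num) (by norm_num)
      (by decide +kernel) h2
  exact kill h1 h2 (a := 68) (s := 240) (b := 308) (by omega) (by norm_num) (by norm_num) lb23 (by norm_num) (by norm_num)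
    (fun h => h) (by decide +kernel) (by norm_num) (by norm_num) (by norm_num) (by norm_num) (by norm_num)

theorem range_append {K a m m' d : ℕ} (h1 : ((List.range m).all fun i => levChk K (a + i) d) = true)
    (h2 : ((List.range m').all fun i => levChk K (a + m + i) d) = true) :
    ((List.range (m + m')).all fun i => levChk K (a + i) d) = true := by
  rw [List.all_eq_true]
  intro i hi
  rw [List.mem_range] at hi
  by_cases h : i < m
  · exact range_chk h1 (by omega) (by omega)
  · exact range_chk h2 (by omega) (by omega)

theorem chk_j4_a : ((List.range 431).all fun i => levChk 6 (43 + i) 889111) = true := by decide +kernel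

theorem chk_j4_b : ((List.range 431).all fun i => levChk 6 (43 + 431 + i) 889111) = true := by decide +kernel

theorem chk_j4_c : ((List.range 430).all fun i => levChk 6 (43 + (431 + 431) + i) 889111) = true := by decide +kernel

theorem chk_j4 : ((List.range 1292).all fun i => levChk 6 (43 + i) 889111) = true :=
  range_append (m := 431 + 431) (m' := 430) (range_append chk_j4_a chk_j4_b) chk_j4_c

theorem no_j4 {n : ℕ} (h1 : IsDeg n 889111) (h2 : IsDeg n 1776888) : False := by
  have h43 := le_of_prime h1 (q := 43) (by norm_num) (by norm_num)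
  by_cases hn : n = 1335
  · subst hn
    exact not_isDeg (lb_of_le (by norm_num) lb29' (by norm_num)) (by norm_num) (by norm_num) (by norm_num)
      (by decide +kernel) h2
  exact kill h1 h2 (a := 43) (s := 1292) (b := 1336) (by omega) (by norm_num) (by norm_num) lb29 (by norm_num)
    (by norm_num) (fun h => by omega) chk_j4 (by norm_num) (by norm_num) (by norm_num) (by norm_num) (by norm_num)

end Cfsg.Agent.H999.DS
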