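import Cfsg.Agent.H999.DS.Chk
import Cfsg.Agent.H704.DegOK
import Cfsg.Agent.Characters.Core
import Cfsg.Prelude.Def_Blocks

/-!
# Exact degrees and degrees of `S_n` (helper999)
-/

set_option autoImplicit false

namespace Cfsg.Agent.H999.DS

open Cfsg Cfsg.Agent.H704

universe u v

/-- an exact degree of `T` is a degree of `S_n` -/
theorem isDeg_of_sub {K : Type u} [Group K] {T : Type v} [Group T] (e : K ≃* T) {n : ℕ}
    (hd : ∀ ψ : K → ℂ, IsIrrCharacter K ψ → ∃ d : ℕ, IsDeg n d ∧ ψ 1 = d) {χ : T → ℂ} (hχ : IsIrrCharacter T χ) {m : ℕ}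
    (h1 : χ 1 = m) : IsDeg n m := by
  obtain ⟨d, h2, h3⟩ := hd (χ ∘ e.toMonoidHom) (Characters.Core.isIrr_comp e.toMonoidHom e.surjective hχ)
  rw [Function.comp_apply, map_one, h1] at h3
  have h4 : m = d := by exact_mod_cast h3
  rw [h4]
  exact h2

/-- an exact degree of `T` is a degree of `S_n`, up to a factor two -/
theorem isDeg_of_degOK {K : Type u} [Group K] {T : Type v} [Group T] (e : K ≃* T) {n : ℕ}
    (hd : DegOK n K) {χ : T → ℂ} (hχ : IsIrrCharacter T χ) {m : ℕ}
    (h1 : χ 1 = m) : IsDeg n m ∨ IsDeg n (2 * m) := by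
  obtain ⟨d, h2, h3⟩ := hd (χ ∘ e.toMonoidHom) (Characters.Core.isIrr_comp e.toMonoidHom e.surjective hχ)
  rw [Function.comp_apply, map_one, h1] at h3
  rcases h3 with h3 | h3
  · left
    have h4 : d = m := by exact_mod_cast h3
    rw [← h4]
    exact h2
  · right
    have h4 : d = 2 * m := by exact_mod_cast h3
    rw [← h4]
    exact h2

/-- the value of a character from its degree as a natural number -/
theorem one_of_charDegree {T : Type v} [Group T] {χ : T → ℂ} (hχ : IsIrrCharacter T χ) {m : ℕ}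
    (h : charDegree χ = m) : χ 1 = m := by
  obtain ⟨n, -, hn'⟩ := Characters.Core.isIrr_apply_one hχ
  have h1 : charDegree χ = n := by simp [charDegree, hn']
  rw [hn', ← h, h1]

end Cfsg.Agent.H999.DS
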